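import Cfsg.Agent.OM.Lo.Pr
import Cfsg.Agent.OM.Alt.Exc
import Cfsg.Agent.BZ.D1.Main

/-!
# OM (S4894): the defining characteristic (helper50)

* `not_all` : a block with `One` does not contain all characters over its central character;
* `rowN_lie`, `row_lie` : the row.
-/

set_option autoImplicit false

namespace Cfsg.Agent.OM.Df

open Cfsg Subgroup ComplexConjugate Cfsg.Agent.OM.Alt Cfsg.Agent.BZ Cfsg.Agent.KM Cfsg.Agent.Characters.Core
open Cfsg.Agent.H622.Over (Lies exists_hom)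

variable {p : ℕ} {M : Ideal AlgInt} {X : Type} [Group X] [Finite X] {Γ : Subgroup (MulAut X)}
  {b : Set (IrrCharacter X)}

/-- a block with `One` does not contain all characters over its central character -/
theorem not_all (h1 : One p Γ b) {θ : IrrCharacter X} (hθ : θ ∈ b) {c : center X →* ℂˣ}
    (h : ∀ χ : IrrCharacter X, Lies (center X) c χ → χ ∈ b) {x : X} (hx : IsPRegular p x) (hx1 : x ≠ 1)
    (hc : (orderOf x).Coprime (Nat.card (center X))) : False := by
  classical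
  have := finite_irr (G := X)
  have := Fintype.ofFinite (IrrCharacter X)
  have := Fintype.ofFinite X
  let K : Set X := {y | orderOf y = orderOf x}
  have h0 := isIrr_apply_one_ne_zero θ.2
  have h2 : ∀ χ ∈ b, ks K χ = ks K θ / (θ : X → ℂ) 1 * (χ : X → ℂ) 1 := fun χ hχ => by
    rw [div_mul_eq_mul_div, eq_div_iff h0]
    exact oneA_of_one h1 K (fun α y hy => (MulEquiv.orderOf_eq α y).trans hy)
      (fun y hy h3 => hx ((show orderOf y = orderOf x from hy) ▸ h3)) χ hχ θ hθ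
  have h3 : ∀ t : X, t ^ orderOf x = 1 →
      ∑ y, (if y ∈ K then if IsConj y t then (Nat.card (centralizer ({t} : Set X)) : ℂ) else 0 else 0) =
        ks K θ / (θ : X → ℂ) 1 * if IsConj 1 t then (Nat.card (centralizer ({t} : Set X)) : ℂ) else 0 := by
    intro t ht
    have h4 : ∀ χ ∈ H382.RIM.ov (center X) c, ks K θ / (θ : X → ℂ) 1 * ((χ : X → ℂ) 1 * conj ((χ : X → ℂ) t)) =
        ∑ y, (if y ∈ K then (χ : X → ℂ) y else 0) * conj ((χ : X → ℂ) t) := fun χ hχ => by
      rw [← mul_assoc, ← h2 χ (h χ (H382.RIM.mem_ov.1 hχ)), ks_eq, Finset.sum_mul]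
    rw [← col c hc ht (one_pow _), mul_left_comm, Finset.mul_sum _ _ (ks K θ / (θ : X → ℂ) 1), Finset.sum_congr rfl h4,
      Finset.sum_comm, Finset.mul_sum]
    refine Finset.sum_congr rfl fun y _ => ?_
    by_cases h5 : y ∈ K
    · simp only [if_pos h5]
      exact (col c hc ht (y := y) ((show orderOf y = orderOf x from h5) ▸ pow_orderOf_eq_one y)).symm
    · simp [h5]
  have h4 := h3 1 (one_pow _)
  rw [if_pos (IsConj.refl _), Finset.sum_eq_zero fun y _ => by
    split_ifs with h4 h5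
    · rw [isConj_one_left.1 h5] at h4
      exact (hx1 (orderOf_eq_one_iff.1 ((show orderOf (1 : X) = orderOf x from h4).symm.trans orderOf_one))).elim
    · rfl
    · rfl] at h4
  have h5 := h3 x (pow_orderOf_eq_one x)
  rw [(mul_eq_zero.1 h4.symm).resolve_right (Nat.cast_ne_zero.2 Nat.card_pos.ne'), zero_mul] at h5
  have h6 : ((∑ y, (if y ∈ K then if IsConj y x then Nat.card (centralizer ({x} : Set X)) else 0 else 0) : ℕ) : ℂ) = 0 := by
    rw [← h5, Nat.cast_sum]
    exact Finset.sum_congr rfl fun y _ => by split_ifs <;> simp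
  have h7 := Finset.sum_eq_zero_iff.1 (Nat.cast_eq_zero.1 h6) x (Finset.mem_univ _)
  rw [if_pos (show x ∈ K from rfl), if_pos (IsConj.refl _)] at h7
  exact Nat.card_pos.ne' h7

/-- **the defining characteristic** -/
theorem rowN_lie : For RowN CLie := by
  intro p hp S _ _ _ hab hS X _ _ σ M Γ b D H
  have C : T.Ce p σ := ⟨H.surj, H.ker.le, H.ker ▸ H.sit.ndvd⟩
  have hP := Blocks.Local.isPrime_of_isPModular H.hM
  obtain ⟨k, hk⟩ := H.exists_card
  have hrt := D1.rt C hS H.hM H.hb H.hD (hk ▸ dvd_pow_self p (by omega))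
  have hCP : T.CP p S := ⟨_, H.pg.map σ, hrt⟩
  obtain ⟨ψ, hψ, h1⟩ := C.max_of_rt H.hM H.hb H.hD hrt
  have h2 : ∀ χ : IrrCharacter X, T.Top p M (χ : X → ℂ) → T.Ov σ (ψ : X → ℂ) χ → χ ∈ b := fun χ h2 h3 =>
    Blocks.Covering.mem_of_sameBlock hP H.hb hψ (C.same H.hM hCP (T.top_of_not_dvd H.hM h1) h2 h3)
  have h0 := isIrr_apply_one_ne_zero ψ.2
  by_cases hZ : ∀ z ∈ center X, z = 1
  · let χ : IrrCharacter X := ⟨fun _ => 1, isIrr_one⟩
    have h3 : charDegree (χ : X → ℂ) = 1 := Blocks.Basic.charDegree_of_eq (n := 1) Nat.cast_one.symm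
    obtain ⟨x, hx⟩ := H.np χ (h2 χ (T.top_of_not_dvd H.hM (h3 ▸ hp.out.not_dvd_one)) fun z hz => by
      rw [hZ z (H.ker.le hz), div_self h0, div_self (isIrr_apply_one_ne_zero χ.2)])
    exact hx rfl
  obtain ⟨r, hr, hrp, h3, h4⟩ := Lo.boxPr p S hab hS X σ H.sit.qs.1.commutator_eq_top H.surj H.ker H.sit.ndvd
  have : Fact r.Prime := ⟨hr⟩
  obtain ⟨x, hx⟩ := exists_prime_orderOf_dvd_card' r (h3.trans C.card_dvd)
  obtain ⟨c, hc⟩ := exists_hom (le_refl (center X)) ψ.2
  refine not_all H.one hψ (c := c) (fun χ hχ => ?_) (x := x) (fun h => ?_) (fun h => ?_)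
    (hx ▸ (Nat.Prime.coprime_iff_not_dvd hr).2 h4)
  · have h5 : T.Ov σ (ψ : X → ℂ) χ := fun z hz => by
      have e1 := hχ 1 ⟨z, H.ker.le hz⟩
      have e2 := hc 1 ⟨z, H.ker.le hz⟩
      rw [one_mul] at e1 e2
      rw [e1, e2, mul_div_cancel_left₀ _ h0, mul_div_cancel_left₀ _ (isIrr_apply_one_ne_zero χ.2)]
    refine h2 χ (D1.top_of C hS H.hM χ (not_le.1 fun h6 => hZ fun z hz => H.faith ψ hψ z hz ?_)) h5
    have h7 := h5 z (H.ker.ge hz)
    rwa [D1.dz_triv C H.sit.qs.1.commutator_eq_top hS χ.2 h6 (H.ker.ge hz), div_self (isIrr_apply_one_ne_zero χ.2),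
      div_eq_one_iff_eq h0] at h7
  · rw [hx] at h
    exact hrp ((Nat.prime_dvd_prime_iff_eq hp.out hr).1 h).symm
  · rw [h, orderOf_one] at hx
    exact hr.one_lt.ne hx

theorem row_lie : For RowO CLie := For.rowO rowN_lie

end Cfsg.Agent.OM.Df
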